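import Groth.Agent.PureRepLib.Proper
import Groth.Agent.FlatStage.Smooth
import Mathlib.AlgebraicGeometry.ValuativeCriterion
import Mathlib.AlgebraicGeometry.ZariskisMainTheorem

/-!
A proper schematically dominant morphism is flat as soon as it becomes flat over itself.
-/

set_option autoImplicit false
set_option backward.isDefEq.respectTransparency false
set_option linter.style.haveILetI false

universe u

open CategoryTheory CategoryTheory.Limits AlgebraicGeometry TopologicalSpace Opposite

noncomputable section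

namespace Groth.Agent.FlatFactLib

theorem surjective_of_injective_app {X Y : Scheme.{u}} (f : X ⟶ Y) [IsProper f]
    (hinj : ∀ V : Y.Opens, Function.Injective (f.app V)) : Surjective f := by
  refine ⟨fun y => ?_⟩
  by_contra hy
  let V : Y.Opens := ⟨(Set.range f.base)ᶜ, f.isClosedMap.isClosed_range.isOpen_compl⟩
  have hbot : f ⁻¹ᵁ V = ⊥ := eq_bot_iff.2 fun x hx => hx ⟨x, rfl⟩
  have h0 : (1 : Γ(Y, V)) = 0 := hinj V (by
    haveI : Subsingleton Γ(X, f ⁻¹ᵁ V) := by
      rw [hbot]; infer_instance
    exact Subsingleton.elim _ _)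
  have hyV : y ∈ V := hy
  have h1 := congrArg (Y.presheaf.germ V y hyV) h0
  rw [map_one, map_zero] at h1
  exact one_ne_zero h1

theorem flat_of_affine {A : Type u} [CommRing A] {X : Scheme.{u}} (f : X ⟶ Spec (CommRingCat.of A))
    [IsProper f] [LocallyOfFinitePresentation f]
    (hinj : ∀ V : (Spec (CommRingCat.of A)).Opens, Function.Injective (f.app V))
    (h : Flat (pullback.snd f f)) : Flat f := by
  obtain ⟨Z, e, he1, he2, he3, he4⟩ :=
    PureRep.repMono_of_proper (Coh.structureModule X) f (FlatStage.isFP_structureModule X) 0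
  haveI := he1
  haveI := he2
  haveI := he3
  haveI := h
  obtain ⟨f', hf'⟩ := (he4 X f).2 (by
    rw [Category.comp_id]
    intro x hx
    exact absurd ((FlatStage.isFlatOverAt_pullback_structureModule (pullback.fst f f) (pullback.snd f f) x).2
      (Flat.stalkMap (pullback.snd f f) x)) hx)
  haveI := surjective_of_injective_app f hinj
  haveI : Surjective f' := ⟨fun z => by
    obtain ⟨x, hx⟩ := f.surjective (e z)
    exact ⟨x, e.injective (by rw [← Scheme.Hom.comp_apply, hf', hx])⟩⟩
  haveI : UniversallyClosed (f' ≫ e) := by rw [hf']; infer_instance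
  haveI : UniversallyClosed e := UniversallyClosed.of_comp_surjective f' e
  haveI : IsProper e := { }
  haveI : IsClosedImmersion e := (IsClosedImmersion.iff_isProper_and_mono e).2 ⟨inferInstance, inferInstance⟩
  haveI : IsIso e := IsClosedImmersion.isIso_of_injective_of_isAffine (by
    have h0 : Function.Injective f.appTop := hinj ⊤
    rw [← hf', Scheme.Hom.comp_appTop] at h0
    exact fun a b hab => h0 (by
      show f'.appTop (e.appTop a) = f'.appTop (e.appTop b)
      rw [hab]))
  have hid := (he4 _ (𝟙 (Spec (CommRingCat.of A)))).1 ⟨inv e, IsIso.inv_hom_id e⟩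
  rw [Category.comp_id] at hid
  have hfl : Flat (pullback.snd f (𝟙 (Spec (CommRingCat.of A)))) := (Flat.iff_flat_stalkMap _).2 fun x => by
    by_contra hx
    have hlt := hid x (fun hh => hx ((FlatStage.isFlatOverAt_pullback_structureModule _ _ x).1 hh))
    simp only [Nat.cast_zero] at hlt
    exact not_lt_zero hlt
  exact (MorphismProperty.cancel_left_of_respectsIso @Flat (pullback.fst f (𝟙 _)) f).1 (by
    rw [pullback.condition, Category.comp_id]; exact hfl)

theorem flat_iff {X Y : Scheme.{u}} (f : X ⟶ Y) [IsProper f] [LocallyOfFinitePresentation f]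
    (hinj : ∀ V : Y.Opens, Function.Injective (f.app V)) : Flat f ↔ Flat (pullback.fst f f) := by
  refine ⟨fun _ => inferInstance, fun h => ?_⟩
  have hs : Flat (pullback.snd f f) := by
    rw [← pullbackSymmetry_hom_comp_fst f f, MorphismProperty.cancel_left_of_respectsIso @Flat]
    exact h
  refine (IsZariskiLocalAtTarget.iff_of_iSup_eq_top (P := @Flat) (fun U : Y.affineOpens => U.1)
    (iSup_affineOpens_eq_top Y)).2 ?_
  rintro ⟨W, hW⟩
  let g := (f ∣_ W) ≫ hW.isoSpec.hom
  suffices Flat g by exact (MorphismProperty.cancel_right_of_respectsIso @Flat (f ∣_ W) hW.isoSpec.hom).1 this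
  haveI : IsProper g := MorphismProperty.comp_mem _ _ _ inferInstance inferInstance
  refine flat_of_affine (A := Γ(Y, W)) g (fun V => ?_) ?_
  · intro a b hab
    have h1 : Function.Injective ((f ∣_ W).app (hW.isoSpec.hom ⁻¹ᵁ V)) := by
      rw [morphismRestrict_app]
      exact fun a b hab => hinj _ ((ConcreteCategory.bijective_of_isIso _).1 hab)
    refine (ConcreteCategory.bijective_of_isIso (hW.isoSpec.hom.app V)).1 (h1 ?_)
    have hcomp : g.app V = hW.isoSpec.hom.app V ≫ (f ∣_ W).app (hW.isoSpec.hom ⁻¹ᵁ V) := Scheme.Hom.comp_app _ _ V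
    rw [hcomp] at hab
    exact hab
  · have e1 : IsPullback (f ⁻¹ᵁ W).ι (f ∣_ W) f W.ι := (isPullback_morphismRestrict f W).flip
    have hw0 : g ≫ hW.fromSpec = (f ⁻¹ᵁ W).ι ≫ f := by
      rw [e1.w]; simp [g, IsAffineOpen.isoSpec_hom]
    let m : pullback g g ⟶ pullback f f := pullback.map g g f f (f ⁻¹ᵁ W).ι (f ⁻¹ᵁ W).ι hW.fromSpec
      hw0 hw0
    have hg : IsPullback (f ⁻¹ᵁ W).ι g f hW.fromSpec :=
      e1.of_iso (Iso.refl _) (Iso.refl _) hW.isoSpec (Iso.refl _) (by simp) (by simp [g]) (by simp)
        (by simp [IsAffineOpen.isoSpec_hom])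
    -- base change of the second projection
    have hsq : IsPullback m (pullback.snd g g) (pullback.snd f f) (f ⁻¹ᵁ W).ι := by
      refine IsPullback.of_right (h₁₂ := pullback.fst f f) (v₁₃ := f) (h₂₂ := f) ?_ (pullback.lift_snd _ _ _) (IsPullback.of_hasPullback f f)
      rw [pullback.lift_fst, e1.w, ← show g ≫ hW.fromSpec = (f ∣_ W) ≫ W.ι by simp [g, IsAffineOpen.isoSpec_hom]]
      exact (IsPullback.of_hasPullback g g).paste_horiz hg
    exact MorphismProperty.of_isPullback (P := @Flat) hsq hs

end Groth.Agent.FlatFactLib
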